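import Cfsg.Agent.Lib.CosetCert.Lower

/-!
A certificate of orbits whose product is the order also shows that the points of its levels separate the
elements.
-/

set_option autoImplicit false

namespace Cfsg.Agent.Lib.PcMult.Pts

open Cfsg.Agent.CosetCert

/-- The permutations fixing the points with the given numbers. -/
def fixPts (n : ℕ) (B : List ℕ) : Subgroup (Equiv.Perm (Fin n)) where
  carrier := {σ | ∀ c : Fin n, (c : ℕ) ∈ B → σ c = c}
  one_mem' := fun c _ => rfl
  mul_mem' := fun {σ τ} hσ hτ c hc => by rw [Equiv.Perm.mul_apply, hτ c hc, hσ c hc]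
  inv_mem' := fun {σ} hσ c hc => by rw [Equiv.Perm.inv_eq_iff_eq, hσ c hc]

/-- The marked points lie in the orbit. -/
theorem marked_le {n : ℕ} {K : Subgroup (Equiv.Perm (Fin n))} {ps : List ℕ} (hps : Realises K ps) {L : Level}
    (hm : marksOK ps L n = true) (hb : parsBelow n L n = true) (hc : countMarks L n = L.m) (hpt : L.pt < n) :
    L.m ≤ Nat.card (MulAction.orbit K (⟨L.pt, hpt⟩ : Fin n)) := by
  classical
  rw [← hc]
  have hcnt : ∀ m, countMarks L m = ((Finset.range m).filter fun c => Nat.shiftRight (L.O.get c) 28 ≠ 0).card := by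
    intro m
    induction m with
    | zero => rfl
    | succ m ih =>
      rw [countMarks, Finset.range_add_one, Finset.filter_insert, ih]
      cases h : Nat.beq (Nat.shiftRight (L.O.get m) 28) 0
      · rw [if_pos fun e => by rw [e] at h; simp at h, Finset.card_insert_of_notMem (by simp), cond_false]
      · rw [if_neg (fun e => e (Nat.eq_of_beq_eq_true h)), cond_true]
  rw [hcnt, Nat.card_eq_fintype_card, ← Set.toFinset_card,
    ← Finset.card_map ⟨Fin.val, Fin.val_injective⟩ (s := (MulAction.orbit K (⟨L.pt, hpt⟩ : Fin n)).toFinset)]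
  refine Finset.card_le_card fun c hc' => ?_
  obtain ⟨h1, h2⟩ := Finset.mem_filter.mp hc'
  obtain ⟨k, hk⟩ := Nat.exists_eq_succ_of_ne_zero h2
  exact Finset.mem_map.mpr ⟨⟨c, Finset.mem_range.mp h1⟩,
    Set.mem_toFinset.mpr (marks_orbit hps (marksOK_spec n hm) (parsBelow_spec n hb) hpt k ⟨c, Finset.mem_range.mp h1⟩ hk),
    rfl⟩

/-- Product of the orbit lengths times the pointwise stabiliser. -/
theorem prodM_mul_le {n : ℕ} : ∀ (Ls : List Level) (ps : List ℕ) (K : Subgroup (Equiv.Perm (Fin n))),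
    Realises K ps → levelsOK n ps Ls = true →
      prodM Ls * Nat.card ↥(K ⊓ fixPts n (Ls.map Level.pt)) ≤ Nat.card K
  | [], _, K, _, _ => by
    have e : K ⊓ fixPts n (List.map Level.pt []) = K := inf_eq_left.mpr fun σ _ c hc => by simp at hc
    rw [e]
    simp [prodM]
  | L :: Ls, ps, K, hps, hok => by
    simp only [levelsOK, levelOK, Bool.and_eq_true] at hok
    obtain ⟨⟨⟨⟨⟨hpt, hmarks⟩, hpars⟩, hcount⟩, hdefs⟩, hrest⟩ := hok
    have hpt' : L.pt < n := by simpa [Nat.blt] using hpt
    set pt : Fin n := ⟨L.pt, hpt'⟩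
    set K' := K ⊓ MulAction.stabilizer (Equiv.Perm (Fin n)) pt with hK'
    have hrec := prodM_mul_le Ls L.next K' (defs_real hps pt _ _ hdefs) hrest
    have horb : L.m ≤ Nat.card (MulAction.orbit K pt) :=
      marked_le hps hmarks hpars (Nat.eq_of_beq_eq_true hcount) hpt'
    have hfix : K ⊓ fixPts n ((L :: Ls).map Level.pt) = K' ⊓ fixPts n (Ls.map Level.pt) := by
      ext σ
      simp only [hK', Subgroup.mem_inf, MulAction.mem_stabilizer_iff, Equiv.Perm.smul_def, and_assoc]
      refine and_congr_right fun _ => ⟨fun h => ⟨h pt (by simp [pt]), fun c hc => h c (by simp [hc])⟩, ?_⟩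
      rintro ⟨h1, h2⟩ c hc
      rcases List.mem_cons.mp hc with e | e
      · rw [show c = pt from Fin.ext e]
        exact h1
      · exact h2 c e
    have hstab : Nat.card K' = Nat.card (MulAction.stabilizer K pt) :=
      Nat.card_congr
        { toFun := fun x => ⟨⟨x.1, x.2.1⟩, x.2.2⟩
          invFun := fun x => ⟨x.1.1, x.1.2, x.2⟩
          left_inv := fun x => rfl
          right_inv := fun x => rfl }
    rw [hfix]
    calc prodM (L :: Ls) * Nat.card ↥(K' ⊓ fixPts n (Ls.map Level.pt))
        = L.m * (prodM Ls * Nat.card ↥(K' ⊓ fixPts n (Ls.map Level.pt))) := by rw [prodM, mul_assoc]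
      _ ≤ Nat.card (MulAction.orbit K pt) * Nat.card K' := Nat.mul_le_mul horb hrec
      _ = Nat.card K := by
        rw [hstab, ← Nat.card_prod]
        exact (Nat.card_congr (MulAction.orbitProdStabilizerEquivGroup K pt))

/-- The points separate the elements. -/
theorem sep {G : Type*} [Group G] {n : ℕ} (φ : G →* Equiv.Perm (Fin n)) (hinj : Function.Injective φ)
    {Ls : List Level} {ps : List ℕ} (hps : Realises φ.range ps) (hok : levelsOK n ps Ls = true)
    (hcard : Nat.card G ≤ prodM Ls) (h0 : 0 < prodM Ls) {B : List ℕ} (hB : ∀ x ∈ Ls.map Level.pt, x ∈ B)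
    {x y : G} (h : ∀ c : Fin n, (c : ℕ) ∈ B → φ x c = φ y c) : x = y := by
  have hle := prodM_mul_le Ls ps φ.range hps hok
  rw [show Nat.card φ.range = Nat.card G from (Nat.card_congr (MonoidHom.ofInjective hinj).toEquiv).symm] at hle
  have h1 : Nat.card ↥(φ.range ⊓ fixPts n (Ls.map Level.pt)) ≤ 1 :=
    Nat.le_of_mul_le_mul_left (hle.trans (hcard.trans (mul_one _).ge)) h0
  have hbot : φ.range ⊓ fixPts n (Ls.map Level.pt) = ⊥ :=
    Subgroup.eq_bot_of_card_eq _ (le_antisymm h1 Nat.card_pos)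
  have hm : φ (y⁻¹ * x) ∈ φ.range ⊓ fixPts n (Ls.map Level.pt) := ⟨⟨_, rfl⟩, fun c hc => by
    rw [map_mul, Equiv.Perm.mul_apply, map_inv, h c (hB _ hc), Equiv.Perm.inv_def, Equiv.symm_apply_apply]⟩
  rw [hbot, Subgroup.mem_bot] at hm
  have := hinj (hm.trans (map_one φ).symm)
  exact (inv_mul_eq_one.mp this).symm

end Cfsg.Agent.Lib.PcMult.Pts
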