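import Cfsg.Agent.Lib.CosetCert.Lower
import Cfsg.Agent.Lib.PcMult.Split
import Cfsg.Agent.Lib.PcMult.Trivial

/-!
Checking the hypotheses of a multiplier certificate in a group with a faithful action on points: the
elements are packed permutations obtained from each other as products, and relations are compared on
points that separate the elements.
-/

set_option autoImplicit false

namespace Cfsg.Agent.Lib.PcMult.Pts

open Cfsg.Agent.CosetCert Cfsg.Agent.Lib.PcMult

/-- The point reached by packed permutations, the first one acting first. -/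
def runQ : List ℕ → ℕ → ℕ
  | [], c => c
  | q :: qs, c => runQ qs (pat q c)

/-- A product of packed permutations has its value below a bound. -/
def stepEq (qs : List ℕ) (p : ℕ) : ℕ → Bool
  | 0 => true
  | c + 1 => Nat.beq (runQ qs c) (pat p c) && stepEq qs p c

section Reals

variable {G : Type} [Group G] {n : ℕ} (φ : G →* Equiv.Perm (Fin n))

/-- A packed number is the permutation of an element. -/
def Reals (q : ℕ) : Prop := ∃ x : G, ∀ c : Fin n, (φ x c : ℕ) = pat q c

/-- All numbers of a list are permutations of elements. -/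
def RealsL (qs : List ℕ) : Prop := ∀ q ∈ qs, Reals φ q

theorem RealsL.nil : RealsL φ [] := fun q hq => absurd hq (by simp)

theorem RealsL.cons {q : ℕ} {qs : List ℕ} (h : Reals φ q) (hs : RealsL φ qs) : RealsL φ (q :: qs) :=
  fun r hr => (List.mem_cons.mp hr).elim (fun e => e ▸ h) (hs r)

theorem reals_run : ∀ qs : List ℕ, RealsL φ qs → ∃ x : G, ∀ c : Fin n, (φ x c : ℕ) = runQ qs c
  | [], _ => ⟨1, fun c => by rw [map_one]; rfl⟩
  | q :: qs, h => by
    obtain ⟨a, ha⟩ := h q List.mem_cons_self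
    obtain ⟨b, hb⟩ := reals_run qs fun r hr => h r (List.mem_cons_of_mem _ hr)
    exact ⟨b * a, fun c => by rw [map_mul, Equiv.Perm.mul_apply, hb, ha]; rfl⟩

theorem stepEq_spec {qs : List ℕ} {p : ℕ} : ∀ m, stepEq qs p m = true → ∀ c < m, runQ qs c = pat p c
  | 0, _, c, hc => absurd hc (by omega)
  | m + 1, h, c, hc => by
    simp only [stepEq, Bool.and_eq_true] at h
    rcases Nat.lt_succ_iff_lt_or_eq.mp hc with e | rfl
    · exact stepEq_spec m h.2 c e
    · exact Nat.eq_of_beq_eq_true h.1

theorem Reals.step {qs : List ℕ} {p : ℕ} (h : RealsL φ qs) (hs : stepEq qs p n = true) : Reals φ p :=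
  let ⟨x, hx⟩ := reals_run φ qs h
  ⟨x, fun c => (hx c).trans (stepEq_spec n hs c c.2)⟩

end Reals

/-- A certificate with packed permutations for the letters and conjugators, the separating points, and for
each letter a point and a set closed under the later letters. -/
structure Data where
  C : Cert
  gc : List ℕ
  hc : List ℕ
  base : List ℕ
  orbs : List (ℕ × List ℕ)

namespace Data

variable (D : Data)

/-- The image of a point under a word. -/
def evP : List ℕ → ℕ → ℕ
  | [], c => c
  | i :: l, c => pat (D.gc.getD i 0) (evP l c)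

/-- The rules hold on the separating points. -/
def checkRules : Bool :=
  (List.range D.C.R.n).all fun i =>
    (D.base.all fun c => D.evP (List.replicate D.C.R.p i) c == D.evP (D.C.R.pwWord i) c) &&
      ((List.range' (i + 1) (D.C.R.n - (i + 1))).all fun j =>
        D.base.all fun c => D.evP [j, i] c == D.evP (i :: D.C.R.cjWord i j) c)

/-- The conjugations hold on the separating points. -/
def checkFus : Bool :=
  (List.range D.C.fus.length).all fun q => (D.C.fus.getD q ([], [])).1.all fun ab =>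
    D.base.all fun c => pat (D.hc.getD q 0) (D.evP ab.1 c) == D.evP ab.2 (pat (D.hc.getD q 0) c)

/-- The letters are in order and each one is new. -/
def checkNew (n : ℕ) : Bool :=
  (List.range D.C.R.n).all fun i =>
    ((D.C.R.pwWord i).all fun k => decide (i < k) && decide (k < D.C.R.n)) &&
    ((List.range' (i + 1) (D.C.R.n - (i + 1))).all fun j =>
      (D.C.R.cjWord i j).all fun k => decide (i < k) && decide (k < D.C.R.n)) &&
    ((D.orbs.getD i (0, [])).2.contains (D.orbs.getD i (0, [])).1) &&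
    ((D.orbs.getD i (0, [])).2.all fun o => decide (o < n)) &&
    ((List.range' (i + 1) (D.C.R.n - (i + 1))).all fun j => (D.orbs.getD i (0, [])).2.all fun o =>
      (D.orbs.getD i (0, [])).2.contains (pat (D.gc.getD j 0) o)) &&
    !(D.orbs.getD i (0, [])).2.contains (pat (D.gc.getD i 0) (D.orbs.getD i (0, [])).1)

/-- The shapes of the data. -/
def checkShape : Bool :=
  D.gc.length == D.C.R.n && D.hc.length == D.C.fus.length &&
    D.C.fus.all (fun qp => qp.1.all fun ab => (ab.1 ++ ab.2).all fun k => decide (k < D.C.R.n))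

variable {G : Type} [Group G] {n : ℕ} (φ : G →* Equiv.Perm (Fin n))

/-- An element with a given permutation. -/
noncomputable def el (q : ℕ) : G := @dite _ (Reals φ q) (Classical.propDecidable _) (fun h => h.choose) fun _ => 1

theorem el_spec {q : ℕ} (h : Reals φ q) (c : Fin n) : (φ (el φ q) c : ℕ) = pat q c := by
  rw [el, dif_pos h]
  exact h.choose_spec c

/-- The letters. -/
noncomputable def g (i : ℕ) : G := el φ (D.gc.getD i 0)

/-- The conjugators. -/
noncomputable def h (i : ℕ) : G := el φ (D.hc.getD i 0)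

theorem getD_mem {l : List ℕ} {i : ℕ} (hi : i < l.length) : l.getD i 0 ∈ l := by
  rw [List.getD_eq_getElem _ _ hi]
  exact List.getElem_mem hi

theorem mem_range'_succ {i j n : ℕ} (hij : i < j) (hj : j < n) :
    j ∈ List.range' (i + 1) (n - (i + 1)) := by
  rw [List.mem_range'_1]
  omega

theorem word_apply (hg : ∀ i < D.C.R.n, Reals φ (D.gc.getD i 0)) :
    ∀ l : List ℕ, (∀ i ∈ l, i < D.C.R.n) → ∀ c : Fin n, (φ (W (D.g φ) l) c : ℕ) = D.evP l c
  | [], _, c => by rw [W_nil, map_one]; rfl
  | i :: l, hl, c => by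
    rw [W_cons, map_mul, Equiv.Perm.mul_apply, g, el_spec φ (hg i (hl i List.mem_cons_self)),
      word_apply hg l fun k hk => hl k (List.mem_cons_of_mem _ hk)]
    rfl

variable {D}

theorem real [Finite G] (hsep : ∀ x y : G, (∀ c : Fin n, (c : ℕ) ∈ D.base → φ x c = φ y c) → x = y)
    (hgc : RealsL φ D.gc) (hhc : RealsL φ D.hc) (hS : D.checkShape = true)
    (hR : D.checkRules = true) (hF : D.checkFus = true) (hN : D.checkNew n = true) :
    D.C.Real (D.g φ) (D.h φ) := by
  simp only [checkShape, Bool.and_eq_true, beq_iff_eq] at hS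
  obtain ⟨⟨hgl, hhl⟩, hB⟩ := hS
  have hg : ∀ i < D.C.R.n, Reals φ (D.gc.getD i 0) := fun i hi => hgc _ (getD_mem (hgl ▸ hi))
  simp only [checkNew, Bool.and_eq_true, List.all_eq_true, List.mem_range, decide_eq_true_eq,
    Bool.not_eq_true', List.contains_eq_mem, decide_eq_false_iff_not] at hN
  simp only [checkRules, Bool.and_eq_true, List.all_eq_true, List.mem_range, beq_iff_eq] at hR
  have hmem : ∀ i < D.C.R.n, (∀ k ∈ D.C.R.pwWord i, i < k ∧ k < D.C.R.n) ∧
      ∀ j, i < j → j < D.C.R.n → ∀ k ∈ D.C.R.cjWord i j, i < k ∧ k < D.C.R.n := fun i hi =>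
    ⟨(hN i hi).1.1.1.1.1, fun j hij hj => (hN i hi).1.1.1.1.2 j (mem_range'_succ hij hj)⟩
  have eqW : ∀ l l' : List ℕ, (∀ i ∈ l, i < D.C.R.n) → (∀ i ∈ l', i < D.C.R.n) →
      (∀ c ∈ D.base, D.evP l c = D.evP l' c) → W (D.g φ) l = W (D.g φ) l' := fun l l' hl hl' h =>
    hsep _ _ fun c hc => Fin.ext (by rw [D.word_apply φ hg l hl, D.word_apply φ hg l' hl', h c hc])
  refine ⟨fun i hi => ?_, fun i j hij hj => ?_, fun qp hqp ab hab => ?_, hmem, fun i hi => ?_⟩
  · have := eqW _ _ (fun k hk => (List.eq_of_mem_replicate hk) ▸ hi) (fun k hk => ((hmem i hi).1 k hk).2)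
      (hR i hi).1
    rwa [W_replicate] at this
  · have hi := hij.trans hj
    have := eqW [j, i] (i :: D.C.R.cjWord i j) (by simp [hi, hj]) (by
      simp only [List.mem_cons, forall_eq_or_imp]
      exact ⟨hi, fun k hk => ((hmem i hi).2 j hij hj k hk).2⟩) ((hR i hi).2 j (mem_range'_succ hij hj))
    simpa [W] using this
  · simp only [checkFus, List.all_eq_true, List.mem_range, beq_iff_eq] at hF
    obtain ⟨⟨ps, rs⟩, q⟩ := qp
    obtain ⟨hq, eq⟩ := List.getElem?_eq_some_iff.1 (List.mem_zipIdx_iff_getElem?.1 hqp)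
    have e := hF q hq ab (by rw [List.getD_eq_getElem _ _ hq, eq]; exact hab)
    simp only [List.all_eq_true, decide_eq_true_eq, List.mem_append] at hB
    have hb := hB _ (List.mem_of_getElem eq) ab hab
    have hh : Reals φ (D.hc.getD q 0) := hhc _ (getD_mem (hhl ▸ hq))
    refine hsep _ _ fun c hc => Fin.ext ?_
    rw [map_mul, map_mul, Equiv.Perm.mul_apply, Equiv.Perm.mul_apply, h, el_spec φ hh,
      D.word_apply φ hg _ fun k hk => hb k (Or.inl hk), D.word_apply φ hg _ fun k hk => hb k (Or.inr hk),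
      el_spec φ hh, e c hc]
  · obtain ⟨⟨⟨⟨-, hb⟩, hlt⟩, hcl⟩, hout⟩ := hN i hi
    intro hin
    have := Subgroup.mem_map_of_mem φ hin
    rw [MonoidHom.map_closure] at this
    refine not_mem_closure (G := Equiv.Perm (Fin n)) (fun σ x => σ x) (fun x => rfl) (fun a b x => rfl)
      ((D.orbs.getD i (0, [])).2.pmap (fun o ho => (⟨o, ho⟩ : Fin n)) hlt)
      (b := ⟨_, hlt _ hb⟩) (List.mem_pmap.2 ⟨_, hb, rfl⟩) ?_ ?_ this
    · rintro _ ⟨_, ⟨j, ⟨hij, hj⟩, rfl⟩, rfl⟩ x hx
      obtain ⟨o, ho, rfl⟩ := List.mem_pmap.1 hx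
      refine List.mem_pmap.2 ⟨_, hcl j (mem_range'_succ hij hj) o ho, Fin.ext ?_⟩
      exact ((el_spec φ (hg j hj) ⟨o, hlt o ho⟩).symm)
    · intro hx
      obtain ⟨o, ho, e⟩ := List.mem_pmap.1 hx
      refine hout ?_
      have e' := congrArg (fun x : Fin n => (x : ℕ)) e
      rw [g, el_spec φ (hg i hi)] at e'
      exact e' ▸ ho

/-- A Sylow preimage splits. -/
theorem split_pts [Finite G] {p : ℕ} [Fact p.Prime] (hp : D.C.R.p = p) {F : Type} {O : Ops F}
    (hO : ∀ (K : Type) [CommGroup K], (∀ z : K, z ^ D.C.R.p = 1) → ∀ τ : ℕ → K, ∃ ev, O.Valid D.C.R.p τ ev)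
    (hC : D.C.check O = true) (hsep : ∀ x y : G, (∀ c : Fin n, (c : ℕ) ∈ D.base → φ x c = φ y c) → x = y)
    (hgc : RealsL φ D.gc) (hhc : RealsL φ D.hc) (hS : D.checkShape = true)
    (hR : D.checkRules = true) (hF : D.checkFus = true) (hN : D.checkNew n = true)
    (hcard : (Nat.card G).factorization p = D.C.R.n)
    (Γ : Type) [Group Γ] [Finite Γ] (σ : Γ →* G) (hc : σ.ker ≤ Subgroup.center Γ) (hσ : Function.Surjective σ)
    (hex : ∀ z, σ z = 1 → z ^ p = 1) (P : Sylow p Γ) :
    ⁅(P : Subgroup Γ), (P : Subgroup Γ)⁆ ⊓ σ.ker = ⊥ := by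
  subst hp
  exact split (σ := σ) (Fact.out) hc hσ hex hO hC (D.real φ hsep hgc hhc hS hR hF hN) hcard rfl P

end Data

end Cfsg.Agent.Lib.PcMult.Pts
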